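import Groth.Agent.S7384
import Groth.Agent.S7380
import Groth.Agent.S0591
import Groth.Agent.S0021
import Groth.Agent.AffLim.DescendConst
import Groth.Agent.AffLim.DescendBaseChange

/-!
# Chevalley's affineness theorem without Noetherian hypotheses
-/

set_option autoImplicit false
set_option linter.style.haveILetI false
set_option maxHeartbeats 1000000
set_option backward.isDefEq.respectTransparency false

universe u

open CategoryTheory Limits AlgebraicGeometry Opposite

noncomputable section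

namespace Groth.Agent.ChevAffine

attribute [local instance] IsCofiltered.isConnected

/-- A finite surjection from an affine scheme dominated by a Noetherian target. -/
theorem isAffine_of_dominant {S T : Scheme.{u}} (p : S ⟶ T) [IsAffineHom p] [IsNoetherian T]
    [IsDominant p] {X' : Scheme.{u}} (f' : X' ⟶ T) [IsFinite f'] [IsAffine X']
    (h : ∀ s : S, p s ∈ Set.range f') : IsAffine S := by
  haveI : Surjective f' := by
    refine ⟨fun t => ?_⟩
    have h1 : closure (Set.range p) ⊆ Set.range f' :=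
      closure_minimal (by rintro _ ⟨s, rfl⟩; exact h s) f'.isClosedMap.isClosed_range
    exact h1 (p.denseRange t)
  haveI : IsAffine T := Groth.Agent.S0021.result f'
  exact isAffine_of_isAffineHom p

/-- Finite fp covers by affines. -/
theorem exists_fp_cover {X S : Scheme.{u}} [CompactSpace S] [QuasiSeparatedSpace S]
    (f : X ⟶ S) [IsFinite f] [Surjective f] [IsAffine X] :
    ∃ (X' : Scheme.{u}) (f' : X' ⟶ S), IsFinite f' ∧ LocallyOfFinitePresentation f' ∧ Surjective f' ∧ IsAffine X' := by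
  obtain ⟨I, _, _, _, D, c, hc, hfp, hcl, ⟨e⟩⟩ := Groth.Agent.S7380.result f
  haveI : IsCofiltered Iᵒᵖ := inferInstance
  let D' := D ⋙ Over.forget S
  let c' : Cone D' := (Over.forget S).mapCone c
  let hc' : IsLimit c' := isLimitOfPreserves (Over.forget S) hc
  let t : D' ⟶ (Functor.const _).obj S := { app := fun i => (D.obj i).hom }
  haveI : ∀ i, CompactSpace (D'.obj i) := fun i => (hfp i).2.2.2.1
  haveI : ∀ i, QuasiSeparatedSpace (D'.obj i) := fun i => (hfp i).2.2.2.2
  haveI : ∀ {i j} (a : i ⟶ j), IsClosedImmersion (D'.map a) := fun a => hcl _ _ a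
  haveI : ∀ {i j} (a : i ⟶ j), IsAffineHom (D'.map a) := fun a => inferInstance
  haveI : ∀ i, LocallyOfFinitePresentation (t.app i) := fun i => (hfp i).1
  haveI : ∀ i, LocallyOfFiniteType (t.app i) := fun i => inferInstance
  let e' : c'.pt ≅ X := (Over.forget S).mapIso e
  have hπ : ∀ i, c'.π.app i ≫ t.app i = e'.hom ≫ f := fun i => by
    show (c.π.app i).left ≫ (D.obj i).hom = e.hom.left ≫ (Over.mk f).hom
    rw [Over.w, Over.w]
    rfl
  haveI : IsAffine c'.pt := .of_isIso e'.hom
  obtain ⟨i₀⟩ := (inferInstance : Nonempty Iᵒᵖ)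
  haveI : IsIntegralHom (c'.π.app i₀ ≫ t.app i₀) := by rw [hπ]; infer_instance
  obtain ⟨i₁, hi₁⟩ := Groth.Agent.AffLim.exists_isFinite_const t c' hc' i₀ (fun a => inferInstance)
  obtain ⟨i₂, hi₂⟩ := Scheme.exists_isAffine_of_isLimit D' c' hc'
  obtain ⟨k, a, b, -⟩ := IsCofilteredOrEmpty.cone_objs i₁ i₂
  haveI := hi₁ k a
  haveI : IsAffine (D'.obj k) := @isAffine_of_isAffineHom _ _ (D'.map b) _ hi₂
  refine ⟨D'.obj k, t.app k, inferInstance, inferInstance, ?_, inferInstance⟩
  refine ⟨fun s => ?_⟩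
  obtain ⟨x, rfl⟩ := f.surjective s
  refine ⟨c'.π.app k (e'.inv x), ?_⟩
  rw [← Scheme.Hom.comp_apply, hπ]
  exact congrArg (fun m : X ⟶ S => m x) (e'.inv_hom_id_assoc f)

/-- Chevalley: the image of an affine scheme under a finite surjection is affine. -/
theorem isAffine_of_finite_surjective {X S : Scheme.{u}} [CompactSpace S] [QuasiSeparatedSpace S]
    (f : X ⟶ S) [IsFinite f] [Surjective f] [IsAffine X] : IsAffine S := by
  obtain ⟨X', f', hf', hfp', hs', hX'⟩ := exists_fp_cover f
  obtain ⟨I, _, _, _, DX, DS, φ, cX, cS, hcX, hcS, eX, eS, haff, hft, hcomm⟩ := Groth.Agent.S7384.result (𝟙 S)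
  haveI : IsCofiltered Iᵒᵖ := inferInstance
  haveI : ∀ i, CompactSpace (DS.obj i) := fun i => (hft i).2.1
  haveI : ∀ {i j} (a : i ⟶ j), IsAffineHom (DS.map a) := fun a => (haff _ _ a).2
  haveI : ∀ i, LocallyOfFiniteType (IsTerminal.from specULiftZIsTerminal (DS.obj i)) := fun i => (hft i).2.2.2
  haveI : ∀ i, IsLocallyNoetherian (DS.obj i) := fun i =>
    LocallyOfFiniteType.isLocallyNoetherian (IsTerminal.from specULiftZIsTerminal (DS.obj i))
  haveI : ∀ i, QuasiSeparatedSpace (DS.obj i) := fun i => inferInstance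
  obtain ⟨i, X₀, f₀, g, hf₀, hqc₀, hqs₀, hpb⟩ := Groth.Agent.S0591.result DS cS hcS X' (f' ≫ eS.inv)
  haveI := hf₀
  haveI := hqc₀
  haveI := hqs₀
  haveI : CompactSpace X₀ := QuasiCompact.compactSpace_of_compactSpace f₀
  haveI : QuasiSeparatedSpace X₀ := quasiSeparatedSpace_of_quasiSeparated f₀
  haveI : IsFinite (f' ≫ eS.inv) := inferInstance
  haveI : LocallyOfFiniteType f₀ := inferInstance
  obtain ⟨k₁, hk₁⟩ := Groth.Agent.AffLim.exists_isFinite_baseChange DS cS hcS i f₀ (𝟙 _) (f := f' ≫ eS.inv) (g := 𝟙 _)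
    (qY := cS.π.app i) (qX := g) (IsPullback.of_vert_isIso ⟨by simp⟩) hpb
  -- the affine stages
  let T := Groth.Agent.AffLim.baseChange DS i (f₀ ≫ 𝟙 _)
  haveI : ∀ k, CompactSpace (T.obj k) := fun k =>
    have : QuasiCompact (pullback.fst (f₀ ≫ 𝟙 _) (DS.map k.hom)) :=
      MorphismProperty.pullback_fst (P := @QuasiCompact) _ _ inferInstance
    QuasiCompact.compactSpace_of_compactSpace (pullback.fst (f₀ ≫ 𝟙 _) (DS.map k.hom))
  haveI : ∀ {a b} (h : a ⟶ b), IsAffineHom (T.map h) := fun h => inferInstance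
  let cT := Groth.Agent.AffLim.baseChangeCone DS cS i (f₀ ≫ 𝟙 _)
  haveI : IsAffine cT.pt := by
    have h' : IsPullback g (f' ≫ eS.inv) (f₀ ≫ 𝟙 _) (cS.π.app i) := by rw [Category.comp_id]; exact hpb
    exact .of_isIso h'.isoPullback.inv
  obtain ⟨k₂, hk₂⟩ := Scheme.exists_isAffine_of_isLimit T cT
    (Groth.Agent.AffLim.nonempty_isLimit_baseChangeCone DS cS hcS i _).some
  obtain ⟨k, a, b, -⟩ := IsCofilteredOrEmpty.cone_objs k₁ k₂
  haveI : IsAffine (T.obj k) := @isAffine_of_isAffineHom _ _ (T.map b) _ hk₂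
  have hsq : IsPullback (T.map a) ((Groth.Agent.AffLim.baseChangeMap DS i f₀ (𝟙 _)).app k)
      ((Groth.Agent.AffLim.baseChangeMap DS i f₀ (𝟙 _)).app k₁) ((Groth.Agent.AffLim.baseChange DS i (𝟙 _)).map a) := by
    refine IsPullback.of_right ?_ ((Groth.Agent.AffLim.baseChangeMap DS i f₀ (𝟙 _)).naturality a)
      (Groth.Agent.AffLim.isPullback_baseChangeMap DS i f₀ (𝟙 _) k₁)
    simpa [T, pullback.map, Groth.Agent.AffLim.baseChange] using Groth.Agent.AffLim.isPullback_baseChangeMap DS i f₀ (𝟙 _) k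
  haveI : IsFinite ((Groth.Agent.AffLim.baseChangeMap DS i f₀ (𝟙 _)).app k) := MorphismProperty.of_isPullback hsq hk₁
  let fk : T.obj k ⟶ DS.obj k.left :=
    (Groth.Agent.AffLim.baseChangeMap DS i f₀ (𝟙 _)).app k ≫ pullback.snd (𝟙 _) (DS.map k.hom)
  haveI : IsIso (pullback.snd (𝟙 (DS.obj i)) (DS.map k.hom)) := inferInstance
  haveI : IsFinite fk := inferInstance
  haveI : IsAffineHom (cS.π.app k.left) := isAffineHom_π_app DS cS hcS k.left
  let p : S ⟶ DS.obj k.left := eS.inv ≫ cS.π.app k.left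
  haveI : IsAffineHom p := inferInstance
  haveI : IsNoetherian (DS.obj k.left) := ⟨⟩
  -- the closure of the image
  let Z := p.image
  haveI : IsNoetherian Z := { LocallyOfFiniteType.isLocallyNoetherian p.imageι, QuasiCompact.compactSpace_of_compactSpace p.imageι with }
  haveI : IsAffineHom p.toImage := by
    haveI : IsAffineHom (p.toImage ≫ p.imageι) := by rw [p.toImage_imageι]; infer_instance
    exact IsAffineHom.of_comp p.toImage p.imageι
  haveI : IsAffine (pullback fk p.imageι) := isAffine_of_isAffineHom (pullback.fst fk p.imageι)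
  haveI : IsFinite (pullback.snd fk p.imageι) := MorphismProperty.pullback_snd _ _ inferInstance
  refine isAffine_of_dominant p.toImage (pullback.snd fk p.imageι) fun s => ?_
  rw [Scheme.Pullback.range_snd, Set.mem_preimage, ← Scheme.Hom.comp_apply, p.toImage_imageι]
  obtain ⟨x, rfl⟩ := f'.surjective s
  let m : X' ⟶ T.obj k := pullback.lift g (f' ≫ eS.inv) (by rw [Category.comp_id]; exact hpb.w) ≫ cT.π.app k
  refine ⟨m x, ?_⟩
  rw [← Scheme.Hom.comp_apply, ← Scheme.Hom.comp_apply]
  congr 1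
  simp [m, fk, p, cT, Groth.Agent.AffLim.baseChangeMap]

end Groth.Agent.ChevAffine
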