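import Mathlib

/-!
# Universally closed surjections from affine schemes, reduced to finite ones
-/

set_option autoImplicit false
set_option linter.style.haveILetI false
set_option maxHeartbeats 1000000
set_option backward.isDefEq.respectTransparency false

universe u

open CategoryTheory Limits AlgebraicGeometry TopologicalSpace

noncomputable section

namespace Groth.Agent.ChevAffine

/-- A universally closed surjection out of an affine scheme has separated target. -/
theorem isSeparated_target {X S : Scheme.{u}} (f : X ⟶ S) [IsAffine X] [Surjective f] [UniversallyClosed f] :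
    S.IsSeparated := by
  refine ⟨⟨?_⟩⟩
  rw [IsClosedImmersion.iff_isPreimmersion]
  refine ⟨inferInstance, ?_⟩
  let t := terminal.from S
  let m := pullback.map (f ≫ t) (f ≫ t) t t f f (𝟙 _) (by simp) (by simp)
  haveI : UniversallyClosed m := by
    let a := pullback.map (f ≫ t) (f ≫ t) t (f ≫ t) f (𝟙 X) (𝟙 _) (by simp) (by simp)
    let b := pullback.map t (f ≫ t) t t (𝟙 S) f (𝟙 _) (by simp) (by simp)
    have hm : m = a ≫ b := by apply pullback.hom_ext <;> simp [m, a, b]
    have ha : IsPullback (pullback.fst (f ≫ t) (f ≫ t)) a f (pullback.fst t (f ≫ t)) := by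
      refine IsPullback.of_bot ?_ (by simp [a]) (IsPullback.of_hasPullback t (f ≫ t))
      simpa [a] using IsPullback.of_hasPullback (f ≫ t) (f ≫ t)
    have hb : IsPullback (pullback.snd t (f ≫ t)) b f (pullback.snd t t) := by
      refine IsPullback.of_bot ?_ (by simp [b]) (IsPullback.of_hasPullback t t).flip
      simpa [b] using (IsPullback.of_hasPullback t (f ≫ t)).flip
    haveI : UniversallyClosed a := MorphismProperty.of_isPullback ha inferInstance
    haveI : UniversallyClosed b := MorphismProperty.of_isPullback hb inferInstance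
    rw [hm]; infer_instance
  have h : Set.range (pullback.diagonal t) = m '' Set.range (pullback.diagonal (f ≫ t)) := by
    have e : pullback.diagonal (f ≫ t) ≫ m = f ≫ pullback.diagonal t := by
      apply pullback.hom_ext <;> simp [m]
    rw [← Set.range_comp, ← TopCat.coe_comp, ← Scheme.Hom.comp_base, e, Scheme.Hom.comp_base, TopCat.coe_comp,
      Set.range_comp, Set.range_eq_univ.mpr f.surjective, Set.image_univ]
  rw [h]
  haveI : IsSeparated (f ≫ t) := by rw [terminal.comp_from]; infer_instance
  exact m.isClosedMap _ (pullback.diagonal (f ≫ t)).isClosedMap.isClosed_range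

/-- A finite surjection with affine source, under an integral one. -/
theorem exists_finite_cover {X S : Scheme.{u}} [CompactSpace S] [QuasiSeparatedSpace S] (f : X ⟶ S) [IsAffine X]
    [Surjective f] [IsIntegralHom f] :
    ∃ (T : Scheme.{u}) (π : T ⟶ S), IsFinite π ∧ Surjective π ∧ IsAffine T := by
  classical
  have hx : ∀ x : X, ∃ (a : Γ(X, ⊤)) (V : S.affineOpens), x ∈ X.basicOpen a ∧ X.basicOpen a ≤ f ⁻¹ᵁ V.1 := fun x => by
    obtain ⟨V, hV, hxV, -⟩ := exists_isAffineOpen_mem_and_subset (X := S) (x := f x) (U := ⊤) trivial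
    obtain ⟨a, ha, hxa⟩ := (isAffineOpen_top X).exists_basicOpen_le (V := f ⁻¹ᵁ V) ⟨x, hxV⟩ trivial
    exact ⟨a, ⟨V, hV⟩, hxa, ha⟩
  choose a V hxa haV using hx
  obtain ⟨s, hs⟩ := isCompact_univ.elim_finite_subcover (fun x : X => (X.basicOpen (a x) : Set X))
    (fun x => (X.basicOpen (a x)).isOpen) fun x _ => Set.mem_iUnion.2 ⟨x, hxa x⟩
  have hspan : Ideal.span (Set.range fun x : s => a x.1) = ⊤ := by
    rw [← (isAffineOpen_top X).iSup_basicOpen_eq_self_iff]
    refine top_le_iff.mp fun x _ => ?_
    obtain ⟨z, hz, hzx⟩ := Set.mem_iUnion₂.mp (hs (Set.mem_univ x))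
    exact Opens.mem_iSup.mpr ⟨⟨a z, ⟨⟨z, hz⟩, rfl⟩⟩, hzx⟩
  obtain ⟨c, hc⟩ := Ideal.mem_span_range_iff_exists_fun.mp (hspan ▸ Submodule.mem_top : (1 : Γ(X, ⊤)) ∈ Ideal.span (Set.range fun x : s => a x.1))
  let n : Type u := s ⊕ s
  let v : n → Γ(X, ⊤) := Sum.elim (fun x => a x.1) c
  let M := AffineSpace.homOfVector f v
  haveI : LocallyOfFiniteType (AffineSpace n S ↘ S) := inferInstance
  have hM : M ≫ (AffineSpace n S ↘ S) = f := AffineSpace.homOfVector_over f v
  let T := M.image
  let π : T ⟶ S := M.imageι ≫ (AffineSpace n S ↘ S)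
  have hfac : M.toImage ≫ π = f := by rw [Scheme.Hom.toImage_imageι_assoc, hM]
  haveI : IsSeparated π := inferInstance
  haveI : UniversallyClosed (M.toImage ≫ π) := by rw [hfac]; infer_instance
  haveI : UniversallyClosed M.toImage := UniversallyClosed.of_comp_of_isSeparated M.toImage π
  haveI : QuasiSeparatedSpace (AffineSpace n S) := quasiSeparatedSpace_of_quasiSeparated (AffineSpace n S ↘ S)
  haveI : QuasiCompact M := quasiCompact_of_compactSpace M
  have hsurj : Function.Surjective M.toImage := fun z => by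
    have h1 : DenseRange M.toImage := M.toImage.denseRange
    have h2 := M.toImage.isClosedMap.isClosed_range
    rw [← Set.mem_range, ← h2.closure_eq]
    exact h1 z
  haveI : Surjective M.toImage := ⟨hsurj⟩
  haveI : UniversallyClosed π := UniversallyClosed.of_comp_surjective M.toImage π
  haveI : Surjective π := ⟨fun y => by
    obtain ⟨x, rfl⟩ := f.surjective y
    exact ⟨M.toImage x, by rw [← Scheme.Hom.comp_apply, hfac]⟩⟩
  haveI : IsAffineHom π := inferInstance
  haveI : IsIntegralHom π := IsIntegralHom.iff_universallyClosed_and_isAffineHom.mpr ⟨inferInstance, inferInstance⟩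
  haveI : IsFinite π := (IsFinite.iff_isIntegralHom_and_locallyOfFiniteType _).mpr ⟨inferInstance, inferInstance⟩
  refine ⟨T, π, inferInstance, inferInstance, ?_⟩
  let t : n → Γ(T, ⊤) := fun i => M.imageι.appTop (AffineSpace.coord S i)
  have ht : ∀ i, M.toImage.appTop (t i) = v i := fun i => by
    show (M.imageι.appTop ≫ M.toImage.appTop) (AffineSpace.coord S i) = v i
    rw [← Scheme.Hom.comp_appTop, Scheme.Hom.toImage_imageι]
    exact AffineSpace.homOfVector_appTop_coord f v i
  have hinj : Function.Injective M.toImage.appTop := by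
    intro p q hpq
    refine TopCat.Sheaf.eq_of_locally_eq' (X := T.toPresheafedSpace) T.sheaf
      (fun U : (AffineSpace n S).affineOpens => M.imageι ⁻¹ᵁ U.1) ⊤ (fun U => homOfLE le_top) ?_ p q fun U => ?_
    · intro z _
      obtain ⟨W, hW, hzW, -⟩ := exists_isAffineOpen_mem_and_subset (X := AffineSpace n S) (x := M.imageι z) (U := ⊤) trivial
      exact Opens.mem_iSup.mpr ⟨⟨W, hW⟩, hzW⟩
    · refine M.toImage_app_injective U ?_
      exact (NatTrans.naturality_apply M.toImage.c (homOfLE le_top).op p).trans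
        ((congrArg _ hpq).trans (NatTrans.naturality_apply M.toImage.c (homOfLE le_top).op q).symm)
  have hsum : (∑ x : s, t (Sum.inr x) * t (Sum.inl x)) = 1 := hinj (by
    rw [map_sum, map_one]
    simp only [map_mul, ht]
    exact hc)
  refine isAffine_of_isAffineOpen_basicOpen (Set.range fun x : s => t (Sum.inl x))
    (Ideal.eq_top_iff_one _ |>.mpr (hsum ▸ Ideal.sum_mem _ fun x _ =>
      Ideal.mul_mem_left _ _ (Ideal.subset_span ⟨x, rfl⟩))) ?_
  rintro _ ⟨x, rfl⟩
  have hle : T.basicOpen (t (Sum.inl x)) ≤ π ⁻¹ᵁ (V x.1).1 := by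
    intro z hz
    obtain ⟨w, rfl⟩ := hsurj z
    have h1 : w ∈ M.toImage ⁻¹ᵁ T.basicOpen (t (Sum.inl x)) := hz
    rw [Scheme.preimage_basicOpen_top, ht] at h1
    have h2 : f w ∈ (V x.1).1 := haV x.1 h1
    show π (M.toImage w) ∈ (V x.1).1
    rwa [← Scheme.Hom.comp_apply, hfac]
  have hA : IsAffineOpen (π ⁻¹ᵁ (V x.1).1) := (V x.1).2.preimage π
  have h3 := hA.basicOpen (T.presheaf.map (homOfLE le_top).op (t (Sum.inl x)))
  rwa [Scheme.basicOpen_res, inf_eq_right.mpr hle] at h3

end Groth.Agent.ChevAffine
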